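/-
Certificate data of a coset enumeration.
-/
import Cfsg.Agent.Lib.CosetEnum.Basic

set_option autoImplicit false
set_option maxRecDepth 1000000

namespace CfsgLib.CosetEnum.HeZ

open CfsgLib.CosetEnum

/-- The packed facts. -/
def facts : Tree :=
  (.node (.leaf 0x900000700009000093000090000960000100001600009000095000010000a70000a00001500003000090000090000120000800008300008000011000020000230000100001300006000007000000000470000100001400004000044000000000570000600004700007000007000070000630000600006400007000074000040000750000700000600006000046000060000050000500000400004000003000030000020000200000100001000000) (.leaf 0x300000700000000017000080000070000800008000008000082000020000070000b000017000020000b20000c0000b70000c0000c30000c0000c6000020000260000c0000c5000020000d70000d0000250000c0000220000b00002000003000017))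

/-- The parents of the cosets. -/
def par : Tree :=
  (.leaf 0x25000022000020000015000012000011000006000005000004000003000002000001000000000000)

/-- The packed words. -/
def words : Tree :=
  (.node (.node (.node (.node (.node (.node (.node (.leaf 0x2) (.leaf 0x120124012000a)) (.leaf 0x563003)) (.node (.node (.leaf 0x5252004) (.leaf 0x5326532653265326010)) (.leaf 0x2626004))) (.node (.node (.node (.leaf 0x212121006) (.leaf 0x2323023232300b)) (.leaf 0x121212006)) (.node (.leaf 0x6464004) (.leaf 0x64565005)))) (.node (.node (.node (.node (.leaf 0x4040004) (.leaf 0x232323232300b)) (.leaf 0x303004)) (.node (.leaf 0x535353006) (.leaf 0x4545004))) (.node (.node (.node (.leaf 0x6161004) (.leaf 0x2323232302300b)) (.leaf 0x1616004)) (.node (.leaf 0x56564005) (.leaf 0x240120120100a))))) (.node (.node (.node (.node (.node (.leaf 0x2020004) (.leaf 0x201201240100a)) (.leaf 0x1010101008)) (.node (.node (.leaf 0x33002) (.leaf 0x635003)) (.leaf 0x353535006))) (.node (.node (.node (.leaf 0x4141004) (.leaf 0x2323230232300b))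 (.leaf 0x1414004)) (.node (.leaf 0x65656565008) (.leaf 0x65645005)))) (.node (.node (.node (.node (.leaf 0x6060004) (.leaf 0x2302323232300b)) (.leaf 0x505004)) (.node (.leaf 0x44002) (.leaf 0x56565656008))) (.node (.node (.node (.leaf 0x32323232323232323232014) (.leaf 0x2653265326532653010)) (.leaf 0x2424004)) (.node (.leaf 0x2323232323000b) (.leaf 0x12401201200a)))))) (.node (.node (.node (.node (.node (.node (.leaf 0x10101010008) (.leaf 0x12012401200a)) (.leaf 0x0)) (.node (.node (.leaf 0x6262004) (.leaf 0x356003)) (.leaf 0x343434006))) (.node (.node (.node (.leaf 0x3131004) (.leaf 0x3232302323200b)) (.leaf 0x1313004)) (.node (.leaf 0x55002) (.leaf 0x56456005)))) (.node (.node (.node (.node (.leaf 0x5050004) (.leaf 0x3023232323200b)) (.leaf 0x404004)) (.node (.leaf 0x636363006) (.leaf 0x4646004))) (.node (.node (.node (.leaf 0x22002) (.leaf 0x3232323230200b)) (.leaf 0x23232323232323232323014)) (.node (.leaf 0x12012012400a) (.leaf 0x124012012000a))))) (.node (.node (.node (.node (.node (.leaf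 0x3030004) (.leaf 0x120120124000a)) (.leaf 0x202004)) (.node (.leaf 0x434343006) (.leaf 0x363636006))) (.node (.node (.node (.leaf 0x5151004) (.leaf 0x3232323023200b)) (.leaf 0x1515004)) (.node (.leaf 0x66002) (.leaf 0x401201201200a)))) (.node (.node (.node (.node (.leaf 0x11002) (.leaf 0x3230232323200b)) (.leaf 0x606004)) (.node (.leaf 0x5454004) (.leaf 0x45656005))) (.node (.node (.node (.leaf 0x4242004) (.leaf 0x3265326532653265010)) (.leaf 0x2525004)) (.node (.leaf 0x6532653265326532010) (.leaf 0x201240120100a)))))))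

/-- The certificate. -/
def data : Data := ⟨7, facts, par, words, 0, 83⟩

/-- Representatives. -/
def rep : Tree :=
  (.leaf 0x0)

/-- The rows of the table. -/
def tab : Tree :=
  (.leaf 0x0)

/-- The table. -/
def table : Table := ⟨1, rep, tab, .leaf 0⟩

/-- The relators. -/
def rels : List (List ℕ) := [[0, 0], [0, 1, 0, 1, 0, 1, 0, 1], [0, 2, 0, 2], [0, 3, 0, 3], [0, 4, 0, 4], [0, 5, 0, 5], [0, 6, 0, 6], [1, 1], [1, 2, 1, 2, 1, 2], [1, 3, 1, 3], [1, 4, 1, 4], [1, 5, 1, 5], [1, 6, 1, 6], [2, 2], [2, 3, 2, 3, 2, 3, 2, 3, 2, 3, 2, 3, 2, 3, 2, 3, 2, 3, 2, 3], [2, 4, 2, 4], [2, 5, 2, 5], [2, 6, 2, 6], [3, 3], [3, 4, 3, 4, 3, 4], [3, 5, 3, 5, 3, 5], [3, 6, 3, 6, 3, 6], [4, 4], [4, 5, 4, 5], [4, 6, 4, 6], [5, 5], [5, 6, 5, 6, 5, 6, 5, 6], [6, 6], [4, 6, 5, 6, 5], [4, 2, 1, 0, 2, 1, 0, 2, 1, 0], [0, 3, 2, 3, 2, 3, 2, 3, 2, 3, 2], [2, 3, 5, 6, 2, 3, 5, 6, 2, 3, 5, 6, 2, 3, 5, 6], [3, 6, 5]]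

/-- The words generating the subgroup. -/
def hw : List (List ℕ) := []

/-- The origin of the words. -/
def rots : List (ℕ × ℕ) := [(0, 0), (1, 0), (2, 0), (3, 0), (4, 0), (5, 0), (6, 0), (7, 0), (8, 0), (9, 0), (10, 0), (11, 0), (12, 0), (13, 0), (14, 0), (15, 0), (16, 0), (17, 0), (18, 0), (19, 0), (20, 0), (21, 0), (22, 0), (23, 0), (24, 0), (25, 0), (26, 0), (27, 0), (28, 0), (29, 0), (30, 0), (31, 0), (32, 0), (34, 0), (1, 1), (2, 1), (3, 1), (4, 1), (5, 1), (6, 1), (8, 1), (9, 1), (10, 1), (11, 1), (12, 1), (14, 1), (15, 1), (16, 1), (17, 1), (19, 1), (20, 1), (21, 1), (23, 1), (24, 1), (26, 1), (28, 1), (28, 2), (28, 3), (28, 4), (29, 1), (29, 2), (29, 3), (29, 4), (29, 5), (29, 6), (29, 7), (29, 8), (29, 9), (30, 1), (30, 2), (30, 3), (30, 4), (30, 5), (30, 6), (30, 7), (30, 8), (30, 9), (30, 10), (31, 1), (31, 2), (31, 3), (32, 1), (32, 2)]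

/-- The generators. -/
def sel : List ℕ := [0, 1, 2, 3, 4, 5, 6]

end CfsgLib.CosetEnum.HeZ
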