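/-
Certificate data of a coset enumeration.
-/
import Cfsg.Agent.Lib.CosetEnum.HeZ.Data

set_option autoImplicit false
set_option maxRecDepth 1000000

namespace CfsgLib.CosetEnum.HeZ

open CfsgLib.CosetEnum

/-- Justifications of the facts from 0. -/
def just0 : List ℕ := [0xfff, 0xfff, 0xfff, 0xfff, 0xfff, 0xfff, 0x30000500000200006002052, 0xfff, 0x30000700100100000001051, 0x800006000050000700000400007004037, 0x800006000050000700200200007002039, 0x50000700000200007002051, 0x3000080000b00005000030000800000600007006032, 0x30000c0000b00300000004000012, 0x40000c000090000c00400000005000016, 0xd0000a0000d00300000004000016, 0xe0000400100300000002025, 0x30000e00004000030000f000030000e0000400000800000006031, 0x110000d00200000000000021, 0x110000300100300000002024, 0x100001000110000300100300000002029, 0xfff, 0x13000150001500200100001001009, 0xfff, 0x20001700200100001001023, 0xfff, 0x500012000000001900400100001001026, 0x17000170001a000190010030000100202f, 0x130001a0001900000300001002052, 0x17000170001c00100200001002030, 0x1b0001d00000200009002051, 0x170001e0001700013000170001e0001700013000170001e00000b0000900b044, 0x1f0001800300000001000000, 0xfff, 0xfff, 0xfff, 0x1000050001200001000230040010000200102b, 0x220002200024000230010030000200202f,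 0x14000240002300000300002002052, 0x22000220002600100200002002030, 0x25000270000020000c002051, 0x210002200028000220001400022000280002200014000220002800000b0000c00b044, 0x29000220020000000b00000d, 0x1000000000010002a00021000010001f0001700000000010002a00000b0000b00a03b, 0x2b0002100300000000000000, 0x10002c00002000200001500015000200000200500300000002028, 0x160002d000160002d000160002d000160002d000160002d00100900008009045, 0xe0000400000000150002d0002e00015000200000200000000150002d00000c0000800a03b, 0x2f0002e0002f00400000001000000, 0x300002000200000000000021]

theorem just0_ok : data.okChunk 0 just0 = true := by decide +kernel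

theorem just0_len : just0.length = 50 := by decide +kernel

end CfsgLib.CosetEnum.HeZ
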